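import Groth.Prelude.Def_Pic
import Groth.Agent.H23.PullPush

/-!
Functoriality of classes of invertible modules.
-/

universe u

open CategoryTheory CategoryTheory.Limits AlgebraicGeometry

namespace Groth.Agent.PicClLib

theorem nonempty_pullback_structureModule {X S : Scheme.{u}} (f : X ⟶ S) :
    Nonempty ((Scheme.Modules.pullback f).obj (Coh.structureModule S) ≅ Coh.structureModule X) := by
  let φ := f.toRingCatSheafHom
  let e : (Scheme.Modules.pullback f).obj (Coh.structureModule S) ⟶ Coh.structureModule X :=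
    SheafOfModules.pullbackObjUnitToUnit φ
  have : IsIso e := inferInstanceAs (IsIso (SheafOfModules.pullbackObjUnitToUnit φ))
  exact ⟨asIso e⟩

theorem pullCl_comp {X Y Z : Scheme.{u}} (f : X ⟶ Y) (g : Y ⟶ Z) (c : PicF.Cl Z) :
    PicF.pullCl f (PicF.pullCl g c) = PicF.pullCl (f ≫ g) c := by
  induction c using Quot.ind with
  | _ L => exact Quot.sound ⟨(Scheme.Modules.pullbackComp f g).app L⟩

theorem pullCl_id {X : Scheme.{u}} (c : PicF.Cl X) : PicF.pullCl (𝟙 X) c = c := by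
  induction c using Quot.ind with
  | _ L => exact Quot.sound ⟨(Scheme.Modules.pullbackId X).app L⟩

theorem isInvertible_pullback {X Y : Scheme.{u}} (g : Y ⟶ X) {L : X.Modules} (hL : PicF.IsInvertible L) :
    PicF.IsInvertible ((Scheme.Modules.pullback g).obj L) := by
  intro y
  obtain ⟨U, hy, ⟨e⟩⟩ := hL (g y)
  have h : (g ⁻¹ᵁ U).ι ≫ g = (g ∣_ U) ≫ U.ι := (morphismRestrict_ι g U).symm
  obtain ⟨e'⟩ := nonempty_pullback_structureModule (g ∣_ U)
  refine ⟨g ⁻¹ᵁ U, hy, ⟨?_⟩⟩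
  exact (Scheme.Modules.restrictFunctorIsoPullback (g ⁻¹ᵁ U).ι).app _ ≪≫
    (Scheme.Modules.pullbackComp (g ⁻¹ᵁ U).ι g).app L ≪≫
    (Scheme.Modules.pullbackCongr h).app L ≪≫
    ((Scheme.Modules.pullbackComp (g ∣_ U) U.ι).app L).symm ≪≫
    (Scheme.Modules.pullback (g ∣_ U)).mapIso (((Scheme.Modules.restrictFunctorIsoPullback U.ι).app L).symm ≪≫ e) ≪≫
    e'

theorem isInvertibleCl_pullCl {X Y : Scheme.{u}} (g : Y ⟶ X) {c : PicF.Cl X} (hc : PicF.IsInvertibleCl c) :
    PicF.IsInvertibleCl (PicF.pullCl g c) := by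
  obtain ⟨L, rfl, hL⟩ := hc
  exact ⟨_, rfl, isInvertible_pullback g hL⟩

set_option backward.isDefEq.respectTransparency false in
theorem XTmap_comp {X S : Scheme.{u}} (f : X ⟶ S) {T T' T'' : Over S} (a : T'' ⟶ T') (b : T' ⟶ T) :
    PicF.XTmap f (a ≫ b) = PicF.XTmap f a ≫ PicF.XTmap f b := by
  apply pullback.hom_ext <;> simp [PicF.XTmap, pullback.map]

end Groth.Agent.PicClLib
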